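import Groth.Agent.SpecSeq.AcyclicQuasiIso
import Mathlib.CategoryTheory.Abelian.Injective.Resolution
import Mathlib.CategoryTheory.Abelian.RightDerived

/-! Acyclic resolutions indexed by `ℕ` compute right derived functors. -/

set_option autoImplicit false
set_option backward.isDefEq.respectTransparency false

universe v v' u u'

open CategoryTheory CategoryTheory.Limits

namespace Groth.Agent.Supp15

variable {C : Type u} [Category.{v} C] [Abelian C] [HasInjectiveResolutions C]
  {D : Type u'} [Category.{v'} D] [Abelian D]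

/-- An exact augmented complex maps to an injective resolution by a quasi-isomorphism. -/
theorem exists_quasiIso_toInjective {X : C} (I : InjectiveResolution X) (K : CochainComplex C ℕ)
    (a : X ⟶ K.X 0) [Mono a] (w : a ≫ K.d 0 1 = 0) (h0 : (ShortComplex.mk a (K.d 0 1) w).Exact)
    (hK : ∀ n, K.ExactAt (n + 1)) : ∃ φ : K ⟶ I.cocomplex, QuasiIso φ := by
  have hs : ∀ n, (ShortComplex.mk (K.d n (n + 1)) (K.d (n + 1) (n + 2)) (K.d_comp_d _ _ _)).Exact :=
    fun n => (HomologicalComplex.exactAt_iff' _ n (n + 1) (n + 2) (by simp) (by simp)).1 (hK n)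
  let f0 : K.X 0 ⟶ I.cocomplex.X 0 := Injective.factorThru (I.ι.f 0) a
  have hf0 : a ≫ f0 = I.ι.f 0 := Injective.comp_factorThru _ _
  let f1 : K.X 1 ⟶ I.cocomplex.X 1 := h0.descToInjective (f0 ≫ I.cocomplex.d 0 1) (by
    dsimp
    rw [← Category.assoc, hf0, I.ι_f_zero_comp_complex_d])
  have hf1 : K.d 0 1 ≫ f1 = f0 ≫ I.cocomplex.d 0 1 := h0.comp_descToInjective _ _
  let φ : K ⟶ I.cocomplex := CochainComplex.mkHom K I.cocomplex f0 f1 hf1.symm fun n ⟨g, g', w'⟩ =>
    ⟨(hs n).descToInjective (g' ≫ I.cocomplex.d (n + 1) (n + 2)) (by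
        dsimp
        rw [← Category.assoc, ← w', Category.assoc, HomologicalComplex.d_comp_d, comp_zero]),
      ((hs n).comp_descToInjective _ _).symm⟩
  let ιK : (CochainComplex.single₀ C).obj X ⟶ K := (CochainComplex.fromSingle₀Equiv _ _).symm ⟨a, w⟩
  have hι : QuasiIso ιK := ⟨fun n => by
    cases n with
    | zero =>
      rw [CochainComplex.quasiIsoAt₀_iff, ShortComplex.quasiIso_iff_of_zeros]
      · refine (ShortComplex.exact_and_mono_f_iff_of_iso ?_).2 ⟨h0, ‹Mono a›⟩
        exact ShortComplex.isoMk (Iso.refl _) (Iso.refl _) (Iso.refl _)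
          ((Category.id_comp _).trans (((CochainComplex.fromSingle₀Equiv_symm_apply_f_zero a w).symm).trans (Category.comp_id _).symm))
          ((Category.id_comp _).trans (Category.comp_id _).symm)
      all_goals simp
    | succ n =>
      rw [quasiIsoAt_iff_exactAt _ _ (CochainComplex.exactAt_succ_single_obj _ _)]
      exact hK n⟩
  have hcomp : ιK ≫ φ = I.ι := by
    apply HomologicalComplex.from_single_hom_ext
    simp only [HomologicalComplex.comp_f]
    exact (congrArg (· ≫ φ.f 0) (CochainComplex.fromSingle₀Equiv_symm_apply_f_zero a w)).trans hf0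
  haveI : QuasiIso (ιK ≫ φ) := by rw [hcomp]; infer_instance
  exact ⟨φ, quasiIso_of_comp_left ιK φ⟩

/-- An acyclic resolution computes the right derived functors. -/
theorem nonempty_rightDerived_iso (F : C ⥤ D) [F.Additive] [PreservesFiniteLimits F] {X : C}
    (K : CochainComplex C ℕ) (a : X ⟶ K.X 0) [Mono a] (w : a ≫ K.d 0 1 = 0)
    (h0 : (ShortComplex.mk a (K.d 0 1) w).Exact) (hK : ∀ n, K.ExactAt (n + 1))
    (hA : ∀ i q : ℕ, 0 < q → IsZero ((F.rightDerived q).obj (K.X i))) (n : ℕ) :
    Nonempty ((F.rightDerived n).obj X ≅ ((F.mapHomologicalComplex _).obj K).homology n) := by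
  let I := injectiveResolution X
  obtain ⟨φ, hφ⟩ := exists_quasiIso_toInjective I K a w h0 hK
  haveI := hφ
  haveI := SpecSeq.quasiIso_map_of_acyclic F φ hA (fun i q hq => by
    obtain ⟨k, rfl⟩ : ∃ k, q = k + 1 := ⟨q - 1, by omega⟩
    exact Functor.isZero_rightDerived_obj_injective_succ F k _)
  exact ⟨I.isoRightDerivedObj F n ≪≫
    (asIso (HomologicalComplex.homologyMap ((F.mapHomologicalComplex _).map φ) n)).symm⟩

end Groth.Agent.Supp15
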