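import Groth.Prelude.Def_SuppFam
import Groth.Agent.CAlgH3.SupportClosedAdj
import Groth.Agent.SiteCoh.Restrict
import Groth.Agent.SiteCoh.Space

/-! Sections with supports in a locally closed subset preserve injectives. -/

set_option autoImplicit false
set_option backward.isDefEq.respectTransparency.types false
universe u

open CategoryTheory CategoryTheory.Limits TopologicalSpace

namespace Groth.Agent.Supp15

open CAlgH3.SupportClosedAdj

theorem injective_sectSuppF {X : TopCat.{u}} (U : Opens X) (F : CohTop.Ab X) (hF : Injective F) :
    Injective ((LocCohZ.sectSuppF U).obj F) := by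
  let R := LocCohZ.sectSuppF U ⋙ CohTop.pull (CohCx.inclCompl U)
  haveI : (CohTop.push (CohCx.inclCompl U)).IsRightAdjoint := (adjZ U).isRightAdjoint
  haveI : (CohTop.push (CohCx.inclCompl U)).PreservesMonomorphisms := Functor.preservesMonomorphisms_of_isRightAdjoint _
  have h1 : Injective (R.obj F) := Injective.injective_of_adjoint (adjunction U) F
  have h2 : Injective ((CohTop.push (CohCx.inclCompl U)).obj (R.obj F)) :=
    @SiteCoh.injective_push _ _ (CohCx.inclCompl U) (R.obj F) h1
  haveI := isIso_unit U _ (supp_sectSupp U F)
  exact Injective.of_iso (asIso ((adjZ U).unit.app ((LocCohZ.sectSuppF U).obj F))).symm h2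

theorem injective_sectSuppLC {X : TopCat.{u}} (F : CohTop.Ab X) {W V : Opens X} (h : W ≤ V) (hF : Injective F) :
    Injective ((SuppFam.sectSuppLC h).obj F) := by
  haveI h1 : Injective ((CohTop.restrFunctor V).obj F) := (CohTop.restrFunctor V).injective_obj_of_injective hF
  haveI h2 := injective_sectSuppF (SuppFam.inOpen V W) _ h1
  haveI : (CohTop.restrFunctor V).PreservesMonomorphisms := inferInstance
  exact Injective.injective_of_adjoint (CAlgH3.SupportSheaf.adj V) _

end Groth.Agent.Supp15
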