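import Groth.Prelude.Def_SuppFam
import Groth.Agent.Supp15.AcyclicRes
import Groth.Agent.Supp15.Injective
import Groth.Agent.CAlgH3.SupportModQcoh
import Groth.Agent.CAlgH3.SupportVanish
import Groth.Agent.CAlgH3.SupportClosedAdj
import Groth.Agent.SiteCoh.Leray
import Groth.Agent.SiteCoh.Space

/-! Local cohomology sheaves with supports in a locally closed subset: flasque sheaves are acyclic and
quasi-coherent modules have quasi-coherent local cohomology. -/

set_option autoImplicit false
set_option backward.isDefEq.respectTransparency.types false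
set_option linter.style.haveILetI false
set_option linter.unusedVariables false
universe u

open CategoryTheory CategoryTheory.Limits AlgebraicGeometry Opposite TopologicalSpace
open Groth.Agent.CAlgH3.SupportSheaf Groth.Agent.CAlgH3.SupportClosedAdj

namespace Groth.Agent.Supp15

variable {X : TopCat.{u}} (U : Opens X)

theorem res_res (F : CohTop.Ab X) {A B C : Opens X} (h : B ≤ A) (h' : C ≤ B) (s : F.obj.obj (op A)) :
    (F.obj.map (homOfLE h').op).hom ((F.obj.map (homOfLE h).op).hom s) =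
      (F.obj.map (homOfLE (h'.trans h)).op).hom s := by
  change (F.obj.map _ ≫ F.obj.map _).hom s = _
  rw [← F.obj.map_comp]
  rfl

/-- A section with supports restricts to zero. -/
theorem iota_res_eq_zero (F : CohTop.Ab X) (W : Opens X) (a : ((LocCohZ.sectSuppF U).obj F).obj.obj (op W)) :
    (F.obj.map (homOfLE (inf_le_left : W ⊓ U ≤ W)).op).hom ((iota U F).hom.app (op W) a) = 0 := by
  haveI := supp_sectSupp U F (W ⊓ U) inf_le_right
  have h := congrArg (fun m => m.hom a) ((iota U F).hom.naturality (homOfLE (inf_le_left : W ⊓ U ≤ W)).op)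
  refine h.symm.trans ?_
  exact (congrArg ((iota U F).hom.app (op (W ⊓ U))).hom (Subsingleton.elim _ 0)).trans (map_zero _)

/-- A section vanishing on `U` is a section with supports. -/
theorem exists_iota (F : CohTop.Ab X) (W : Opens X) (s : F.obj.obj (op W))
    (hs : (F.obj.map (homOfLE (inf_le_left : W ⊓ U ≤ W)).op).hom s = 0) :
    ∃ a, (iota U F).hom.app (op W) a = s := by
  let x := (LocCohZ.sect0Equiv F (inf_le_left : W ⊓ U ≤ W)).symm ⟨s, hs⟩
  refine ⟨chi U F W (Abelian.Ext.addEquiv₀ x), (iota_chi U F W _).trans ?_⟩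
  exact congrArg Subtype.val ((LocCohZ.sect0Equiv F (inf_le_left : W ⊓ U ≤ W)).apply_symm_apply ⟨s, hs⟩)

/-- Sections with supports of a flasque sheaf form a flasque sheaf. -/
theorem isFlasque_sectSuppF (F : CohTop.Ab X) [TopCat.Sheaf.IsFlasque F] :
    TopCat.Sheaf.IsFlasque ((LocCohZ.sectSuppF U).obj F) where
  epi {A B} i := by
    obtain ⟨W⟩ := A
    obtain ⟨W'⟩ := B
    have hle : W' ≤ W := leOfHom i.unop
    rw [AddCommGrpCat.epi_iff_surjective]
    intro a
    let s := (iota U F).hom.app (op W') a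
    let V : Bool → Opens X := fun b => cond b W' (W ⊓ U)
    have hV : ∀ b, V b ≤ W := fun b => by cases b; exacts [inf_le_left, hle]
    let sf : ∀ b, F.obj.obj (op (V b)) := fun b => match b with
      | true => s
      | false => 0
    have hz := iota_res_eq_zero U F W' a
    have key : ∀ (Z : Opens X) (h₁ : Z ≤ W') (h₂ : Z ≤ W ⊓ U), (F.obj.map (homOfLE h₁).op).hom s = 0 := by
      intro Z h₁ h₂
      rw [← res_res F (inf_le_left : W' ⊓ U ≤ W') (le_inf h₁ (h₂.trans inf_le_right)), hz, map_zero]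
    have hcomp : TopCat.Presheaf.IsCompatible F.obj V sf := by
      intro b c
      cases b <;> cases c
      · rfl
      · exact (map_zero _).trans (key _ inf_le_right inf_le_left).symm
      · exact (key _ inf_le_left inf_le_right).trans (map_zero _).symm
      · rfl
    obtain ⟨t, ht, -⟩ := TopCat.Sheaf.existsUnique_gluing' F V (iSup V) (fun b => homOfLE (le_iSup V b)) le_rfl sf hcomp
    obtain ⟨r, hr⟩ := (AddCommGrpCat.epi_iff_surjective _).1
      (TopCat.Presheaf.IsFlasque.epi (F := F.obj) (homOfLE (iSup_le hV)).op) t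
    have hrb : ∀ b, (F.obj.map (homOfLE (hV b)).op).hom r = sf b := fun b => by
      rw [← res_res F (iSup_le hV) (le_iSup V b) r, ← ht b]
      exact congrArg _ hr
    obtain ⟨c, hc⟩ := exists_iota U F W r (hrb false)
    refine ⟨c, iota_injective U F (op W') ?_⟩
    have h := congrArg (fun m => m.hom c) ((iota U F).hom.naturality i)
    refine h.trans ?_
    rw [show i = (homOfLE hle).op from Subsingleton.elim _ _]
    change (F.obj.map (homOfLE hle).op).hom ((iota U F).hom.app (op W) c) = s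
    rw [hc]
    exact hrb true

theorem preservesFiniteLimits_sectSuppF : PreservesFiniteLimits (LocCohZ.sectSuppF U) := by
  haveI : (LocCohZ.sectSuppF U ⋙ CohTop.pull (CohCx.inclCompl U)).IsRightAdjoint := (adjunction U).isRightAdjoint
  haveI : (CohTop.push (CohCx.inclCompl U)).IsRightAdjoint := (adjZ U).isRightAdjoint
  haveI : ∀ F, IsIso ((Functor.whiskerLeft (LocCohZ.sectSuppF U) (adjZ U).unit).app F) := fun F =>
    isIso_unit U _ (supp_sectSupp U F)
  haveI : IsIso (Functor.whiskerLeft (LocCohZ.sectSuppF U) (adjZ U).unit) := NatIso.isIso_of_isIso_app _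
  haveI : PreservesFiniteLimits (LocCohZ.sectSuppF U ⋙ CohTop.pull (CohCx.inclCompl U)) :=
    PreservesLimitsOfSize.preservesFiniteLimits.{u, u} _
  haveI : PreservesFiniteLimits (CohTop.push (CohCx.inclCompl U)) :=
    PreservesLimitsOfSize.preservesFiniteLimits.{u, u} _
  haveI := comp_preservesFiniteLimits (LocCohZ.sectSuppF U ⋙ CohTop.pull (CohCx.inclCompl U))
    (CohTop.push (CohCx.inclCompl U))
  exact preservesFiniteLimits_of_natIso
    (F := (LocCohZ.sectSuppF U ⋙ CohTop.pull (CohCx.inclCompl U)) ⋙ CohTop.push (CohCx.inclCompl U))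
    (G := LocCohZ.sectSuppF U)
    (asIso (Functor.whiskerLeft (LocCohZ.sectSuppF U) (adjZ U).unit)).symm

theorem isZero_rightDerived_sectSuppF (F : CohTop.Ab X) [TopCat.Sheaf.IsFlasque F] (q : ℕ) (hq : 0 < q) :
    IsZero (((LocCohZ.sectSuppF U).rightDerived q).obj F) :=
  CAlgH3.SupportVanish.isZero_HZsh_of_vanish U F q fun _ =>
    CAlgH3.SupportVanish.subsingleton_HZ_of_isFlasque F inf_le_left q hq

theorem isFlasque_restr (V : Opens X) (F : CohTop.Ab X) [TopCat.Sheaf.IsFlasque F] :
    TopCat.Sheaf.IsFlasque ((CohTop.restrFunctor V).obj F) where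
  epi {A B} i := inferInstanceAs (Epi (F.obj.map ((SiteCoh.opensIncl V).map i.unop).op))

theorem preservesFiniteLimits_sectSuppLC {W V : Opens X} (h : W ≤ V) :
    PreservesFiniteLimits (SuppFam.sectSuppLC h) := by
  haveI := preservesFiniteLimits_sectSuppF (SuppFam.inOpen V W)
  haveI : (CohTop.push (CohCx.incl V)).IsRightAdjoint := (CAlgH3.SupportSheaf.adj V).isRightAdjoint
  haveI : PreservesFiniteLimits (CohTop.push (CohCx.incl V)) := PreservesLimitsOfSize.preservesFiniteLimits.{u, u} _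
  exact comp_preservesFiniteLimits _ _

/-- Flasque sheaves are acyclic for sections with supports in a locally closed subset. -/
theorem isZero_rightDerived_sectSuppLC {W V : Opens X} (h : W ≤ V) (F : CohTop.Ab X)
    [TopCat.Sheaf.IsFlasque F] (q : ℕ) (hq : 0 < q) :
    IsZero ((SuppFam.HZshLC h q).obj F) := by
  obtain ⟨k, rfl⟩ : ∃ k, q = k + 1 := ⟨q - 1, by omega⟩
  let G := LocCohZ.sectSuppF (SuppFam.inOpen V W)
  let H := CohTop.push (CohCx.incl V)
  haveI := preservesFiniteLimits_sectSuppF (SuppFam.inOpen V W)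
  haveI : G.PreservesInjectiveObjects := ⟨fun {I} hI => injective_sectSuppF (SuppFam.inOpen V W) I hI⟩
  haveI := isFlasque_restr V F
  let e₁ := (SiteCoh.rightDerivedExactCompIso (CohTop.restrFunctor V) (G ⋙ H) (k + 1)).app F
  let e₂ := SiteCoh.rightDerivedCompAcyclicObjIso G H
    (F := (CohTop.restrFunctor V).obj F)
    (fun j => isZero_rightDerived_sectSuppF (SuppFam.inOpen V W) _ (j + 1) j.succ_pos) (k + 1)
  haveI := isFlasque_sectSuppF (SuppFam.inOpen V W) ((CohTop.restrFunctor V).obj F)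
  exact (SiteCoh.isZero_rpush_of_isFlasque (CohCx.incl V) _ k).of_iso (e₁ ≪≫ e₂)

/-- naturality of the inclusion of sections with supports -/
theorem push_iota_naturality {W V : Opens X} (h : W ≤ V) {F G : CohTop.Ab X} (f : F ⟶ G) :
    (SuppFam.sectSuppLC h).map f ≫
        (CohTop.push (CohCx.incl V)).map (iota (SuppFam.inOpen V W) ((CohTop.restrFunctor V).obj G)) =
      (CohTop.push (CohCx.incl V)).map (iota (SuppFam.inOpen V W) ((CohTop.restrFunctor V).obj F)) ≫
        (CohTop.push (CohCx.incl V)).map ((CohTop.restrFunctor V).map f) := by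
  change (CohTop.push (CohCx.incl V)).map ((LocCohZ.sectSuppF (SuppFam.inOpen V W)).map ((CohTop.restrFunctor V).map f)) ≫ _ = _
  rw [← Functor.map_comp, ← Functor.map_comp]
  exact congrArg _ ((iotaNat (SuppFam.inOpen V W)).naturality ((CohTop.restrFunctor V).map f))

section Scheme

variable {Y : Scheme.{u}} {V₂ V₁ : Y.Opens} (hVV : V₂ ≤ V₁)

/-- restriction to `V₁` followed by direct image -/
noncomputable abbrev C1 (_ : V₂ ≤ V₁) : Y.Modules ⥤ Y.Modules := CAlgH3.SupportModQcoh.comp V₁.ι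

/-- the same, after restricting further to `V₂` -/
noncomputable abbrev C12 (hVV : V₂ ≤ V₁) : Y.Modules ⥤ Y.Modules := C1 hVV ⋙ CAlgH3.SupportModQcoh.comp V₂.ι

theorem map_isIso_of_eq (M : Y.Modules) {A B : Y.Opens} (e : A = B) (f : A ⟶ B) : IsIso (M.presheaf.map f.op) := by
  subst e
  rw [Subsingleton.elim f (𝟙 _), op_id, M.presheaf.map_id]
  infer_instance

theorem image_preimage (V : Y.Opens) (A : Y.Opens) : V.ι ''ᵁ (V.ι ⁻¹ᵁ A) = A ⊓ V := by
  ext x
  exact ⟨fun ⟨y, hy, e⟩ => e ▸ ⟨hy, y.2⟩, fun h => ⟨⟨x, h.2⟩, h.1, rfl⟩⟩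

/-- Restricting to `V₁` does not change the restriction to `V₂ ≤ V₁`. -/
theorem isIso_comp_unit (hVV : V₂ ≤ V₁) : IsIso (Functor.whiskerRight (Scheme.Modules.restrictAdjunction V₁.ι).unit
    (CAlgH3.SupportModQcoh.comp V₂.ι)) := by
  haveI : ∀ M, IsIso ((Functor.whiskerRight (Scheme.Modules.restrictAdjunction V₁.ι).unit
      (CAlgH3.SupportModQcoh.comp V₂.ι)).app M) := fun M => by
    refine Scheme.Modules.Hom.isIso_iff_isIso_app.2 fun A => ?_
    change IsIso (M.presheaf.map (V₁.ι.opensFunctorAdjunction.counit.app (V₂.ι ''ᵁ (V₂.ι ⁻¹ᵁ A))).op)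
    refine map_isIso_of_eq M ?_ _
    show V₁.ι ''ᵁ (V₁.ι ⁻¹ᵁ (V₂.ι ''ᵁ (V₂.ι ⁻¹ᵁ A))) = V₂.ι ''ᵁ (V₂.ι ⁻¹ᵁ A)
    rw [image_preimage V₁, image_preimage V₂, inf_eq_left]
    exact inf_le_right.trans hVV
  exact NatIso.isIso_of_isIso_app _

/-- The unit whose kernel is the module of sections with supports. -/
noncomputable abbrev resMap (M : Y.Modules) : (C1 hVV).obj M ⟶ (C12 hVV).obj M :=
  (Scheme.Modules.restrictAdjunction V₂.ι).unit.app ((C1 hVV).obj M)

theorem isFlasque_C1 (M : Y.Modules) [TopCat.Sheaf.IsFlasque (Coh.toAb M)] :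
    TopCat.Sheaf.IsFlasque (Coh.toAb ((C1 hVV).obj M)) where
  epi {A B} i := inferInstanceAs (Epi ((Coh.toAb M).obj.map
    (V₁.ι.opensFunctor.map ((Opens.map V₁.ι.base).map i.unop)).op))

theorem epi_resMap (I : Y.Modules) [Injective I] : Epi (resMap hVV I) := by
  haveI := Coherent.isFlasque_toAb_of_injective I
  haveI := isFlasque_C1 hVV I
  haveI : (Coherent.toAbFunctor Y).Faithful :=
    ⟨fun {M N f g} h => (Scheme.Modules.toPresheaf Y).map_injective (congrArg (fun m => m.hom) h)⟩
  apply (Coherent.toAbFunctor Y).epi_of_epi_map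
  apply (sheafToPresheaf (Opens.grothendieckTopology Y) AddCommGrpCat.{u}).epi_of_epi_map
  haveI : ∀ V, Epi (((sheafToPresheaf (Opens.grothendieckTopology Y) AddCommGrpCat.{u}).map
      ((Coherent.toAbFunctor Y).map (resMap hVV I))).app V) := fun V =>
    inferInstanceAs (Epi ((Coh.toAb ((C1 hVV).obj I)).obj.map (V₂.ι.opensFunctorAdjunction.counit.app V.unop).op))
  exact NatTrans.epi_of_epi_app _

/-- The inclusion of the sheaf of sections with supports. -/
noncomputable def nu (M : Y.Modules) :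
    (SuppFam.sectSuppLC (X := Y.carrier) hVV).obj (Coh.toAb M) ⟶ Coh.toAb ((C1 hVV).obj M) :=
  (CohTop.push (CohCx.incl (X := Y.carrier) V₁)).map
    (iota (X := TopCat.of V₁) (SuppFam.inOpen V₁ V₂) ((CohTop.restrFunctor V₁).obj (Coh.toAb M)))

theorem nu_naturality {M N : Y.Modules} (φ : M ⟶ N) :
    (SuppFam.sectSuppLC (X := Y.carrier) hVV).map ((Coherent.toAbFunctor Y).map φ) ≫ nu hVV N =
      nu hVV M ≫ (Coherent.toAbFunctor Y).map ((C1 hVV).map φ) := by
  refine Sheaf.hom_ext (NatTrans.ext (funext fun A => AddCommGrpCat.hom_ext (AddMonoidHom.ext fun a => ?_)))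
  exact congrArg (fun m => (m.hom.app (op ((Opens.map (CohCx.incl (X := Y.carrier) V₁)).obj A.unop))).hom a)
    ((iotaNat (X := TopCat.of V₁) (SuppFam.inOpen V₁ V₂)).naturality
      ((CohTop.restrFunctor V₁).map ((Coherent.toAbFunctor Y).map φ)))

theorem opens_eq (A : Y.Opens) :
    (SiteCoh.opensIncl (X := Y.carrier) V₁).obj
        ((Opens.map (CohCx.incl (X := Y.carrier) V₁)).obj A ⊓ SuppFam.inOpen V₁ V₂) =
      V₁.ι ''ᵁ (V₁.ι ⁻¹ᵁ (V₂.ι ''ᵁ (V₂.ι ⁻¹ᵁ A))) := by
  rw [image_preimage V₂]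
  ext x
  exact ⟨fun ⟨y, hy, e⟩ => ⟨y, hy, e⟩, fun ⟨y, hy, e⟩ => ⟨y, hy, e⟩⟩

theorem nu_resMap (M : Y.Modules) : nu hVV M ≫ (Coherent.toAbFunctor Y).map (resMap hVV M) = 0 := by
  ext A : 3
  refine AddCommGrpCat.hom_ext (AddMonoidHom.ext fun a => ?_)
  let W : Opens (TopCat.of (V₁ : Set Y)) := (Opens.map (CohCx.incl (X := Y.carrier) V₁)).obj A.unop
  have h := iota_res_eq_zero (X := TopCat.of V₁) (SuppFam.inOpen V₁ V₂)
    ((CohTop.restrFunctor V₁).obj (Coh.toAb M)) W a
  change ((Coh.toAb M).obj.map (V₁.ι.opensFunctor.map ((Opens.map V₁.ι.base).map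
      (V₂.ι.opensFunctorAdjunction.counit.app A.unop))).op).hom _ = 0
  have e := (opens_eq (V₂ := V₂) (V₁ := V₁) A.unop).ge
  refine Eq.trans ?_ ((congrArg ((Coh.toAb M).obj.map (homOfLE e).op).hom h).trans (map_zero _))
  exact (res_res (X := Y.carrier) (Coh.toAb M) _ _ _).symm

theorem exists_nu (M : Y.Modules) (A : Y.Opens) (s : (Coh.toAb ((C1 hVV).obj M)).obj.obj (op A))
    (hs : ((Coherent.toAbFunctor Y).map (resMap hVV M)).hom.app (op A) s = 0) :
    ∃ a, (nu hVV M).hom.app (op A) a = s := by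
  let W : Opens (TopCat.of (V₁ : Set Y)) := (Opens.map (CohCx.incl (X := Y.carrier) V₁)).obj A
  refine exists_iota (X := TopCat.of V₁) (SuppFam.inOpen V₁ V₂)
    ((CohTop.restrFunctor V₁).obj (Coh.toAb M)) W s ?_
  have e := (opens_eq (V₂ := V₂) (V₁ := V₁) A).le
  change ((Coh.toAb M).obj.map _).hom _ = 0
  refine Eq.trans ?_ ((congrArg ((Coh.toAb M).obj.map (homOfLE e).op).hom hs).trans (map_zero _))
  exact (res_res (X := Y.carrier) (Coh.toAb M) _ _ _).symm

theorem nu_injective (M : Y.Modules) (A : Y.Opens) : Function.Injective ((nu hVV M).hom.app (op A)) :=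
  iota_injective (X := TopCat.of V₁) _ _ _

/-- The middle of a five-term exact sequence of quasi-coherent modules is quasi-coherent. -/
theorem isQCoh_of_exact {A B M C D : Y.Modules} (a : A ⟶ B) (b : B ⟶ M) (c : M ⟶ C) (d : C ⟶ D)
    [Coh.IsQCoh A] [Coh.IsQCoh B] [Coh.IsQCoh C] [Coh.IsQCoh D] (hab : a ≫ b = 0) (hbc : b ≫ c = 0)
    (hcd : c ≫ d = 0) (h₁ : (ShortComplex.mk a b hab).Exact) (h₂ : (ShortComplex.mk b c hbc).Exact)
    (h₃ : (ShortComplex.mk c d hcd).Exact) : Coh.IsQCoh M := by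
  let T : ShortComplex Y.Modules := ShortComplex.mk (cokernel.desc a b hab) (kernel.lift d c hcd) (by
    rw [← cancel_epi (cokernel.π a), cokernel.π_desc_assoc, comp_zero, ← cancel_mono (kernel.ι d), Category.assoc,
      kernel.lift_ι, hbc, zero_comp])
  haveI : Mono T.f := h₁.mono_cokernelDesc
  haveI : Epi T.g := h₃.epi_kernelLift
  have hT : T.ShortExact :=
    { exact := by
        have h1 : (ShortComplex.mk b T.g (by
          rw [← cancel_mono (kernel.ι d), Category.assoc, kernel.lift_ι, hbc, zero_comp])).Exact :=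
          (ShortComplex.exact_iff_of_epi_of_isIso_of_mono
            (S₁ := ShortComplex.mk b T.g _) (S₂ := ShortComplex.mk b c hbc)
            { τ₁ := 𝟙 _, τ₂ := 𝟙 _, τ₃ := kernel.ι d }).2 h₂
        exact (ShortComplex.exact_iff_of_epi_of_isIso_of_mono
          (S₁ := ShortComplex.mk b T.g _) (S₂ := T)
          { τ₁ := cokernel.π a, τ₂ := 𝟙 _, τ₃ := 𝟙 _ }).1 h1 }
  haveI : Coh.IsQCoh T.X₁ := Coherent.isQCoh_cokernel _
  haveI : Coh.IsQCoh T.X₃ := Coherent.isQCoh_kernel _
  exact Coherent.isQCoh_X₂ hT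

/-- The module of sections with supports. -/
noncomputable def gam : Y.Modules ⥤ Y.Modules where
  obj M := kernel (resMap hVV M)
  map {M N} φ := kernel.map _ _ ((C1 hVV).map φ) ((C12 hVV).map φ)
    ((Scheme.Modules.restrictAdjunction V₂.ι).unit.naturality ((C1 hVV).map φ)).symm
  map_id M := by rw [← cancel_mono (kernel.ι _), kernel.lift_ι, Category.id_comp, CategoryTheory.Functor.map_id, Category.comp_id]
  map_comp φ ψ := by
    rw [← cancel_mono (kernel.ι _), kernel.lift_ι, Category.assoc, kernel.lift_ι, kernel.lift_ι_assoc,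
      Functor.map_comp, Category.assoc]

theorem gam_map_ι {M N : Y.Modules} (φ : M ⟶ N) :
    (gam hVV).map φ ≫ kernel.ι (resMap hVV N) = kernel.ι (resMap hVV M) ≫ (C1 hVV).map φ :=
  kernel.lift_ι _ _ _

instance : (gam hVV).Additive where
  map_add {M N f g} := by
    haveI : Mono (kernel.ι (resMap hVV N) : (gam hVV).obj N ⟶ _) := inferInstanceAs (Mono (kernel.ι (resMap hVV N)))
    refine (cancel_mono (kernel.ι (resMap hVV N))).1 ((gam_map_ι hVV (f + g)).trans ?_)
    refine Eq.trans ?_ (Preadditive.add_comp _ _ _ _ _ _).symm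
    refine Eq.trans ?_ (congrArg₂ (· + ·) (gam_map_ι hVV f) (gam_map_ι hVV g)).symm
    rw [Functor.map_add, Preadditive.comp_add]
    rfl

theorem toAb_kernel (M : Y.Modules) :
    ((ShortComplex.mk (kernel.ι (resMap hVV M)) (resMap hVV M) (kernel.condition _)).map
        (Coherent.toAbFunctor Y)).Exact ∧
      Mono ((Coherent.toAbFunctor Y).map (kernel.ι (resMap hVV M))) := by
  refine ⟨(ShortComplex.exact_of_f_is_kernel _ (kernelIsKernel (resMap hVV M))).map (Coherent.toAbFunctor Y), ?_⟩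
  exact (Coherent.toAb_shortExact
    (S := ShortComplex.mk (kernel.ι (resMap hVV M)) (cokernel.π _) (cokernel.condition _))
    { exact := ShortComplex.exact_cokernel _ }).mono_f

/-- the comparison with sections with supports of abelian sheaves -/
noncomputable def gamComp (M : Y.Modules) :
    (SuppFam.sectSuppLC (X := Y.carrier) hVV).obj (Coh.toAb M) ⟶ (Coherent.toAbFunctor Y).obj ((gam hVV).obj M) :=
  haveI : Mono ((ShortComplex.mk (kernel.ι (resMap hVV M)) (resMap hVV M) (kernel.condition _)).map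
        (Coherent.toAbFunctor Y)).f := (toAb_kernel hVV M).2
  (toAb_kernel hVV M).1.lift (nu hVV M) (nu_resMap hVV M)

theorem gamComp_ι (M : Y.Modules) :
    gamComp hVV M ≫ (Coherent.toAbFunctor Y).map (kernel.ι (resMap hVV M)) = nu hVV M :=
  haveI : Mono ((ShortComplex.mk (kernel.ι (resMap hVV M)) (resMap hVV M) (kernel.condition _)).map
        (Coherent.toAbFunctor Y)).f := (toAb_kernel hVV M).2
  (toAb_kernel hVV M).1.lift_f _ _

theorem isIso_gamComp (M : Y.Modules) : IsIso (gamComp hVV M) := by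
  haveI : ∀ B : (Opens Y)ᵒᵖ, IsIso (((sheafToPresheaf (Opens.grothendieckTopology Y) AddCommGrpCat.{u}).map
      (gamComp hVV M)).app B) := by
    rintro ⟨B⟩
    rw [ConcreteCategory.isIso_iff_bijective]
    have hc : ∀ a, ((Coherent.toAbFunctor Y).map (kernel.ι (resMap hVV M))).hom.app (op B)
        ((gamComp hVV M).hom.app (op B) a) = (nu hVV M).hom.app (op B) a := fun a =>
      congrArg (fun m => (m.hom.app (op B)).hom a) (gamComp_ι hVV M)
    constructor
    · intro a b hab
      apply nu_injective hVV M B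
      rw [← hc, ← hc]
      exact congrArg _ hab
    · intro x
      obtain ⟨a, ha⟩ := exists_nu hVV M B _ (Coherent.kernel_ι_app_zero (resMap hVV M) B x)
      refine ⟨a, Coherent.app_injective_of_mono (kernel.ι (resMap hVV M)) B ?_⟩
      exact (hc a).trans ha
  haveI : IsIso ((sheafToPresheaf (Opens.grothendieckTopology Y) AddCommGrpCat.{u}).map (gamComp hVV M)) :=
    NatIso.isIso_of_isIso_app _
  exact isIso_of_reflects_iso (gamComp hVV M) (sheafToPresheaf (Opens.grothendieckTopology Y) AddCommGrpCat.{u})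

theorem gamComp_naturality {M N : Y.Modules} (φ : M ⟶ N) :
    gamComp hVV M ≫ (Coherent.toAbFunctor Y).map ((gam hVV).map φ) =
      (SuppFam.sectSuppLC (X := Y.carrier) hVV).map ((Coherent.toAbFunctor Y).map φ) ≫ gamComp hVV N := by
  haveI := (toAb_kernel hVV N).2
  refine (cancel_mono ((Coherent.toAbFunctor Y).map (kernel.ι (resMap hVV N)))).1 ?_
  refine (Category.assoc _ _ _).trans ((congrArg (gamComp hVV M ≫ ·)
    ((Functor.map_comp _ _ _).symm.trans ((congrArg _ (gam_map_ι hVV φ)).trans (Functor.map_comp _ _ _)))).trans ?_)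
  refine (Category.assoc _ _ _).symm.trans ?_
  refine (congrArg (· ≫ (Coherent.toAbFunctor Y).map ((C1 hVV).map φ)) (gamComp_ι hVV M)).trans
    ((nu_naturality hVV φ).symm.trans ?_)
  exact ((Category.assoc _ _ _).trans
    (congrArg ((SuppFam.sectSuppLC (X := Y.carrier) hVV).map ((Coherent.toAbFunctor Y).map φ) ≫ ·) (gamComp_ι hVV N))).symm

variable [QuasiCompact V₁.ι] [QuasiCompact V₂.ι]

theorem isQCoh_gam_homology [HasInjectiveResolutions Y.Modules] {F : Y.Modules} [Coh.IsQCoh F]
    (R : InjectiveResolution F) (j : ℕ) :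
    Coh.IsQCoh ((((gam hVV).mapHomologicalComplex (ComplexShape.up ℕ)).obj R.cocomplex).homology j) := by
  let K := R.cocomplex
  let P := ((C1 hVV).mapHomologicalComplex (ComplexShape.up ℕ)).obj K
  let Q := ((C12 hVV).mapHomologicalComplex (ComplexShape.up ℕ)).obj K
  let N := ((gam hVV).mapHomologicalComplex (ComplexShape.up ℕ)).obj K
  let η : P ⟶ Q :=
    { f := fun n => resMap hVV (K.X n)
      comm' := fun n m _ => ((Scheme.Modules.restrictAdjunction V₂.ι).unit.naturality
        ((C1 hVV).map (K.d n m))).symm }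
  let ιc : N ⟶ P :=
    { f := fun n => kernel.ι (resMap hVV (K.X n))
      comm' := fun n m _ => (gam_map_ι hVV (K.d n m)).symm }
  have w : ιc ≫ η = 0 := by
    ext n : 1
    exact kernel.condition _
  let S := ShortComplex.mk ιc η w
  have hS : S.ShortExact := HomologicalComplex.shortExact_of_degreewise_shortExact _ fun n => by
    haveI : Injective (K.X n) := R.injective n
    exact { exact := ShortComplex.exact_of_f_is_kernel _ (kernelIsKernel _)
            mono_f := equalizer.ι_mono
            epi_g := epi_resMap hVV (K.X n) }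
  have q₁ : ∀ n, Coh.IsQCoh (S.X₂.homology n) := fun n =>
    CAlgH3.SupportModQcoh.qc (R.isoRightDerivedObj (C1 hVV) n)
      (CAlgH3.SupportModQcoh.isQCoh_comp_rightDerived V₁.ι F n)
  have q₂ : ∀ n, Coh.IsQCoh (S.X₃.homology n) := fun n => by
    haveI := isIso_comp_unit hVV
    let e : C12 hVV ≅ CAlgH3.SupportModQcoh.comp V₂.ι :=
      (asIso (Functor.whiskerRight (Scheme.Modules.restrictAdjunction V₁.ι).unit
        (CAlgH3.SupportModQcoh.comp V₂.ι))).symm ≪≫ Functor.leftUnitor _
    exact CAlgH3.SupportModQcoh.qc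
      (((SiteCoh.rightDerivedCongr e n).app F).symm ≪≫ R.isoRightDerivedObj (C12 hVV) n)
      (CAlgH3.SupportModQcoh.isQCoh_comp_rightDerived V₂.ι F n)
  haveI := q₁ j
  haveI := q₂ j
  show Coh.IsQCoh (S.X₁.homology j)
  cases j with
  | zero =>
    haveI : Mono (S.f.f 0) := inferInstanceAs (Mono (kernel.ι (resMap hVV (K.X 0))))
    haveI : Mono (HomologicalComplex.homologyMap S.f 0) :=
      HomologicalComplex.mono_homologyMap_of_mono_of_not_rel S.f 0 (fun i => by simp)
    exact CAlgH3.SupportModQcoh.qc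
      (IsLimit.conePointUniqueUpToIso (kernelIsKernel (HomologicalComplex.homologyMap S.g 0))
        (hS.homology_exact₂ 0).fIsKernel) (Coherent.isQCoh_kernel _)
  | succ n =>
    haveI := q₁ n
    haveI := q₂ n
    exact isQCoh_of_exact _ _ _ _ _ _ _ (hS.homology_exact₃ n (n + 1) rfl)
      (hS.homology_exact₁ n (n + 1) rfl) (hS.homology_exact₂ (n + 1))

/-- Local cohomology sheaves of a quasi-coherent module are quasi-coherent. -/
theorem exists_isQCoh_iso (F : Y.Modules) (hF : Coh.IsQCoh F) (i : ℕ) :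
    ∃ M : Y.Modules, Coh.IsQCoh M ∧
      Nonempty (Coh.toAb M ≅ (SuppFam.HZshLC (X := Y.carrier) hVV i).obj (Coh.toAb F)) := by
  haveI := hF
  haveI : HasInjectiveResolutions Y.Modules := Coherent.hasInjectiveResolutions_modules Y
  let R := injectiveResolution F
  let A := (Coherent.toAbFunctor Y).mapHomologicalComplex (ComplexShape.up ℕ)
  let T := SuppFam.sectSuppLC (X := Y.carrier) hVV
  let N := ((gam hVV).mapHomologicalComplex (ComplexShape.up ℕ)).obj R.cocomplex
  refine ⟨N.homology i, isQCoh_gam_homology hVV R i, ?_⟩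
  let eN : (T.mapHomologicalComplex _).obj (A.obj R.cocomplex) ≅ A.obj N :=
    HomologicalComplex.Hom.isoOfComponents
      (fun n => @asIso _ _ _ _ (gamComp hVV (R.cocomplex.X n)) (isIso_gamComp hVV _))
      (fun n m _ => gamComp_naturality hVV (R.cocomplex.d n m))
  haveI := preservesFiniteLimits_sectSuppLC (X := Y.carrier) hVV
  have h00 : (ShortComplex.mk ((Coherent.toAbFunctor Y).map (R.ι.f 0)) ((A.obj R.cocomplex).d 0 1)
      ((Functor.map_comp _ _ _).symm.trans ((congrArg _ R.ι_f_zero_comp_complex_d).trans (Functor.map_zero _ _ _)))).Exact :=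
    R.exact₀.map (Coherent.toAbFunctor Y)
  have hmono : Mono ((Coherent.toAbFunctor Y).map (R.ι.f 0)) :=
    (Coherent.toAb_shortExact (S := ShortComplex.mk (R.ι.f 0) (cokernel.π _) (cokernel.condition _))
      { exact := ShortComplex.exact_cokernel _ }).mono_f
  obtain ⟨e⟩ := @nonempty_rightDerived_iso _ _ _ _ _ _ _ T _ _ (Coh.toAb F) (A.obj R.cocomplex)
    ((Coherent.toAbFunctor Y).map (R.ι.f 0)) hmono _ h00
    (fun n => by
      rw [HomologicalComplex.exactAt_iff' _ n (n + 1) (n + 2) (by simp) (by simp)]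
      exact (R.exact_succ n).map (Coherent.toAbFunctor Y))
    (fun n q hq => @isZero_rightDerived_sectSuppLC Y.carrier _ _ hVV (Coh.toAb (R.cocomplex.X n))
        (@Coherent.isFlasque_toAb_of_injective _ (R.cocomplex.X n) (R.injective n)) q hq) i
  exact ⟨((N.sc i).mapHomologyIso (Coherent.toAbFunctor Y)).symm ≪≫
    (asIso (HomologicalComplex.homologyMap eN.hom i)).symm ≪≫ e.symm⟩

end Scheme

end Groth.Agent.Supp15
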